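import Cfsg.Agent.DefectFree.Local
import Cfsg.Agent.Small.Counting
import Cfsg.Agent.PLocal.CommutatorFacts
import Mathlib.GroupTheory.GroupAction.Defs

/-!
# Transitive groups of prime power degree without defect zero: the Sylow subgroup is normal

A Sylow `p`-subgroup is abelian, hence regular; every involution has one fixed point, the involutions
inverting a fixed Sylow subgroup `P` are all the involutions, so `P` is normal.
-/

set_option autoImplicit false
set_option linter.unusedSectionVars false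
set_option linter.style.haveILetI false

namespace CfsgLib.DefectFree

open Cfsg Subgroup MulAction

variable {G Ω : Type*} [Group G] [Finite G] [MulAction G Ω] [FaithfulSMul G Ω] [Finite Ω]
  [IsPretransitive G Ω] {p : ℕ} [hp : Fact p.Prime]

theorem exists_mem_smul_eq {r : ℕ} (hΩ : Nat.card Ω = p ^ r) (P : Sylow p G) (α β : Ω) :
    ∃ u ∈ (P : Subgroup G), u • α = β := by
  let S := stabilizer G α
  set Q := stabilizer (P : Subgroup G) α
  have hidx : S.index = p ^ r := by rw [index_stabilizer_of_transitive, hΩ]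
  have hQS : Nat.card Q ∣ Nat.card S := by
    rw [← card_map_of_injective (K := Q) (P : Subgroup G).subtype_injective]
    exact card_dvd_of_le fun y ⟨q, hq, e⟩ => e ▸ (show (q : G) • α = α from hq)
  obtain ⟨j, hj⟩ := IsPGroup.iff_card.1 (P.2.to_subgroup Q)
  set a := (Nat.card G).factorization p
  have hja : j + r ≤ a := by
    refine (hp.out.pow_dvd_iff_le_factorization Nat.card_pos.ne').1 ?_
    rw [← S.card_mul_index, hidx, pow_add]
    exact Nat.mul_dvd_mul_right (hj ▸ hQS) _
  have horb : p ^ r ≤ Nat.card (orbit (P : Subgroup G) α) := by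
    have h := Q.card_mul_index
    rw [index_stabilizer, hj, P.card_eq_multiplicity, ← Nat.card_coe_set_eq] at h
    refine Nat.le_of_mul_le_mul_left ?_ (pow_pos hp.out.pos j)
    rw [h, ← pow_add]
    exact Nat.pow_le_pow_right hp.out.pos hja
  have huniv : orbit (P : Subgroup G) α = Set.univ :=
    Set.eq_of_subset_of_ncard_le (Set.subset_univ _)
      (by rw [Set.ncard_univ, hΩ, ← Nat.card_coe_set_eq]; exact horb) (Set.toFinite _)
  obtain ⟨⟨u, hu⟩, he⟩ := huniv.symm ▸ Set.mem_univ β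
  exact ⟨u, hu, he⟩

variable {r : ℕ} (hΩ : Nat.card Ω = p ^ r)
  (hab : ∀ P : Sylow p G, ∀ x ∈ (P : Subgroup G), ∀ y ∈ (P : Subgroup G), x * y = y * x)

include hΩ hab

theorem eq_one_of_commute (P : Sylow p G) {c : G}
    (hc : ∀ v ∈ (P : Subgroup G), c * v = v * c) {α : Ω} (h : c • α = α) : c = 1 :=
  FaithfulSMul.eq_of_smul_eq_smul fun β : Ω => by
    obtain ⟨v, hv, rfl⟩ := exists_mem_smul_eq hΩ P α β
    rw [one_smul, ← mul_smul, hc v hv, mul_smul, h]

theorem eq_one_of_fixed (P : Sylow p G) {u : G} (hu : u ∈ (P : Subgroup G)) {α : Ω}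
    (h : u • α = α) : u = 1 :=
  eq_one_of_commute hΩ hab P (fun v hv => hab P u hu v hv) h

theorem centralizer_sylow_le (P : Sylow p G) :
    centralizer ((P : Subgroup G) : Set G) ≤ (P : Subgroup G) := by
  obtain ⟨α⟩ : Nonempty Ω :=
    (Nat.card_pos_iff.1 (hΩ ▸ pow_pos hp.out.pos r)).1
  intro c hc
  obtain ⟨u, hu, he⟩ := exists_mem_smul_eq hΩ P α (c • α)
  have : u⁻¹ * c = 1 := eq_one_of_commute hΩ hab P (α := α) (fun v hv => by
    rw [mul_assoc, ← mem_centralizer_iff.1 hc v hv, ← mul_assoc, hab P u⁻¹ (inv_mem hu) v hv,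
      mul_assoc]) (by rw [mul_smul, ← he, inv_smul_smul])
  rwa [← inv_mul_eq_one.1 this]

/-- The `p'`-core of a subgroup containing `P` fixes every point. -/
theorem core_eq_bot (P : Sylow p G) {x : G} (hx : x ∈ (P : Subgroup G)) :
    centralizerPPrimeCore p x = ⊥ := by
  set V := centralizerPPrimeCore p x
  have hPV : (P : Subgroup G) ≤ normalizer (V : Set G) :=
    (le_centralizer_singleton (hab P) hx).trans (le_normalizer_core x)
  rw [eq_bot_iff]
  intro v hv
  rw [mem_bot]
  refine FaithfulSMul.eq_of_smul_eq_smul fun α : Ω => ?_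
  set H := V ⊔ (P : Subgroup G) with hH
  have htr : ∀ β : Ω, ∃ h ∈ H, h • α = β := fun β =>
    (exists_mem_smul_eq hΩ P α β).imp fun u hu => ⟨mem_sup_right hu.1, hu.2⟩
  set R := stabilizer H α
  have hR : Nat.card R * p ^ r = Nat.card H := by
    have : IsPretransitive H Ω := ⟨fun a b => by
      obtain ⟨u, hu, hua⟩ := htr a
      obtain ⟨w, hw, hwb⟩ := htr b
      exact ⟨⟨w * u⁻¹, mul_mem hw (inv_mem hu)⟩, by
        show (w * u⁻¹) • a = b
        rw [mul_smul, ← hua, inv_smul_smul, hwb]⟩⟩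
    rw [← hΩ, ← index_stabilizer_of_transitive H α, R.card_mul_index]
  have hPr : Nat.card (P : Subgroup G) = p ^ r := by
    rw [← hΩ]
    refine Nat.card_eq_of_bijective (fun u : (P : Subgroup G) => (u : G) • α) ⟨fun u w e => ?_, fun β => ?_⟩
    · refine Subtype.ext (inv_mul_eq_one.1 (eq_one_of_fixed hΩ hab P (α := α)
        (mul_mem (inv_mem u.2) w.2) ?_))
      rw [mul_smul, ← show (u : G) • α = (w : G) • α from e, inv_smul_smul]
    · obtain ⟨u, hu, he⟩ := exists_mem_smul_eq hΩ P α β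
      exact ⟨⟨u, hu⟩, he⟩
  have hVP : Nat.card V * p ^ r = Nat.card H := by
    have h := PLocal.card_sup_mul_card_inf hPV
    rw [sup_comm, inf_comm, show V ⊓ (P : Subgroup G) = ⊥ from
      Coprime.inf_eq_bot_of_coprime (by
        rw [hPr]
        exact ((hp.out.coprime_iff_not_dvd.2 (not_dvd_core x)).pow_left r).symm),
      card_bot, mul_one] at h
    rw [← hPr, hH, h, mul_comm]
  have hRV : Nat.card R = Nat.card V :=
    Nat.eq_of_mul_eq_mul_right (pow_pos hp.out.pos r) (hR.trans hVP.symm)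
  set R' := R.map H.subtype
  have hR'V : R' ≤ V := by
    intro y hy
    obtain ⟨v', hv', u, hu, rfl⟩ := Coprime.exists_mul_of_mem_sup hPV
      (map_subtype_le _ hy : y ∈ V ⊔ (P : Subgroup G))
    obtain ⟨k, hk⟩ := exists_pow_of_mem P.2 hu
    set N := normalizer (V : Set G)
    have hmem : (v' * u) ∈ N := mul_mem (le_normalizer hv') (hPV hu)
    let π := QuotientGroup.mk' (V.subgroupOf N)
    have e : π ⟨v' * u, hmem⟩ = π ⟨u, hPV hu⟩ := by
      rw [show (⟨v' * u, hmem⟩ : N) = ⟨v', le_normalizer hv'⟩ * ⟨u, hPV hu⟩ from rfl, map_mul,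
        show π ⟨v', le_normalizer hv'⟩ = 1 from
          (QuotientGroup.eq_one_iff _).2 (mem_subgroupOf.2 hv'), one_mul]
    have hord : orderOf (π ⟨v' * u, hmem⟩) ∣ Nat.card V := by
      refine (orderOf_map_dvd π _).trans ?_
      rw [Subgroup.orderOf_mk, ← hRV, ← card_map_of_injective (K := R) H.subtype_injective,
        ← Subgroup.orderOf_mk (v' * u) hy]
      exact orderOf_dvd_natCard _
    have hord' : orderOf (π ⟨v' * u, hmem⟩) ∣ p ^ k := by
      rw [e]
      refine (orderOf_map_dvd π _).trans ?_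
      rw [Subgroup.orderOf_mk, hk]
    have : π ⟨v' * u, hmem⟩ = 1 := orderOf_eq_one_iff.1 (Nat.eq_one_of_dvd_coprimes
      ((hp.out.coprime_iff_not_dvd.2 (not_dvd_core x)).pow_left k) hord' hord)
    exact mem_subgroupOf.1 ((QuotientGroup.eq_one_iff _).1 this)
  have : v ∈ R' := (eq_of_le_of_card_ge hR'V
    (by rw [card_map_of_injective H.subtype_injective, hRV])).ge hv
  obtain ⟨⟨w, hw⟩, hwR, rfl⟩ := this
  rw [one_smul]
  exact hwR

variable (hno : NoDefectZero p G) (hC : OddCentralizers p G) (hp2 : p ≠ 2) (h2 : 2 ∣ Nat.card G)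
  (hS : ∀ x : G, x ≠ 1 → (∃ k, orderOf x = p ^ k) → Group.IsSolvable (centralizer ({x} : Set G)))

include hno hC hp2 h2 hS

theorem centralizer_le_normalizer_sylow (P : Sylow p G) {x : G} (hx : x ∈ (P : Subgroup G))
    (hx1 : x ≠ 1) : centralizer ({x} : Set G) ≤ normalizer ((P : Subgroup G) : Set G) := by
  haveI := Fintype.ofFinite G
  have h := centralizer_le_core_sup_normalizer hno hC h2 P hx (hS x hx1 (exists_pow_of_mem P.2 hx))
  rwa [core_eq_bot hΩ hab P hx, bot_sup_eq] at h

theorem sylow_eq_of_mem (P Q : Sylow p G) {x : G} (hP : x ∈ (P : Subgroup G))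
    (hQ : x ∈ (Q : Subgroup G)) (hx1 : x ≠ 1) : P = Q := by
  have hle : (Q : Subgroup G) ≤ normalizer ((P : Subgroup G) : Set G) :=
    (le_centralizer_singleton (hab Q) hQ).trans
      (centralizer_le_normalizer_sylow hΩ hab hno hC hp2 h2 hS P hP hx1)
  haveI := Sylow.unique_of_normal (P.subtype le_normalizer) (by
    rw [Sylow.coe_subtype]; exact normal_in_normalizer)
  exact Sylow.subtype_injective (Subsingleton.elim (P.subtype le_normalizer) (Q.subtype hle))

/-- An involution fixes exactly one point. -/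
theorem existsUnique_fixed {t : G} (ht : orderOf t = 2) : ∃! α : Ω, t • α = α := by
  classical
  haveI := Fintype.ofFinite G
  haveI := Fintype.ofFinite Ω
  have h1 := mul_self_of_orderOf ht
  obtain ⟨α, hα⟩ : ∃ α : Ω, t • α = α := by
    haveI := Fact.mk Nat.prime_two
    refine Equiv.Perm.exists_fixed_point_of_prime (p := 2) (n := 1)
      (σ := MulAction.toPerm t) ?_ ?_
    · rw [← Nat.card_eq_fintype_card, hΩ]
      exact fun h => hp2 ((Nat.prime_dvd_prime_iff_eq Nat.prime_two hp.out).1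
        (Nat.prime_two.dvd_of_dvd_pow h)).symm
    · refine Equiv.ext fun β => ?_
      rw [pow_one, pow_two]
      show t • t • β = β
      rw [← mul_smul, h1, one_smul]
  refine ⟨α, hα, fun β hβ => ?_⟩
  obtain ⟨P, hP⟩ := exists_sylow_inverted hno hC ht
  obtain ⟨u, hu, rfl⟩ := exists_mem_smul_eq hΩ P α β
  have e : u⁻¹ • α = u • α := by
    rw [← hP u hu, mul_smul, mul_smul, hα, show t • u • α = u • α from hβ]
  have hu2 : u * u = 1 :=
    eq_one_of_fixed hΩ hab P (α := α) (mul_mem hu hu) (by rw [mul_smul, ← e, smul_inv_smul])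
  obtain ⟨k, hk⟩ := exists_pow_of_mem P.2 hu
  have hu1 : u = 1 := orderOf_eq_one_iff.1 (Nat.eq_one_of_dvd_coprimes
    (((Nat.coprime_primes hp.out Nat.prime_two).2 hp2).pow_left k) (hk ▸ dvd_rfl)
    (orderOf_dvd_of_pow_eq_one (by rw [pow_two, hu2])))
  rw [hu1, one_smul]

/-- Involutions with different fixed points do not both commute with an involution. -/
theorem not_commute_both {t s i : G} (ht : orderOf t = 2) (hs : orderOf s = 2) (hi : orderOf i = 2)
    {α β : Ω} (hα : t • α = α) (hβ : s • β = β) (hne : α ≠ β) (h1 : t * i = i * t)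
    (h2' : s * i = i * s) : False := by
  obtain ⟨γ, hγ, hu⟩ := existsUnique_fixed (Ω := Ω) hΩ hab hno hC hp2 h2 hS hi
  have key : ∀ w : G, w * i = i * w → w • γ = γ := fun w hw => hu _ (by
    show i • w • γ = w • γ
    rw [← mul_smul, ← hw, mul_smul, show i • γ = γ from hγ])
  exact hne (((existsUnique_fixed hΩ hab hno hC hp2 h2 hS ht).unique hα (key t h1)).trans
    ((existsUnique_fixed hΩ hab hno hC hp2 h2 hS hs).unique (key s h2') hβ))

/-- The product of two involutions with different fixed points is a `p`-element. -/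
theorem exists_sylow_mem_mul {t s : G} (ht : orderOf t = 2) (hs : orderOf s = 2) {α β : Ω}
    (hα : t • α = α) (hβ : s • β = β) (hne : α ≠ β) : ∃ P : Sylow p G, t * s ∈ (P : Subgroup G) := by
  classical
  haveI := Fintype.ofFinite G
  haveI := Fact.mk Nat.prime_two
  have ht1 := mul_self_of_orderOf ht
  have hs1 := mul_self_of_orderOf hs
  have hti : t⁻¹ = t := inv_eq_of_mul_eq_one_right ht1
  set g := t * s with hg
  have hinv : t * g * t = g⁻¹ := by
    rw [hg, ← mul_assoc, ht1, one_mul, mul_inv_rev, hti, inv_eq_of_mul_eq_one_right hs1]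
  have hsg : s = t * g := by rw [hg, ← mul_assoc, ht1, one_mul]
  -- `t` fixes an involution of `C(g)` if there is one
  have hodd : Odd (Nat.card (centralizer ({g} : Set G))) := by
    rw [← Nat.not_even_iff_odd]
    intro hev
    set T := {i : centralizer ({g} : Set G) // orderOf i = 2}
    have hnorm : ∀ y ∈ centralizer ({g} : Set G), t * y * t ∈ centralizer ({g} : Set G) := by
      intro y hy
      rw [mem_centralizer_singleton_iff] at hy ⊢
      have e : t * g⁻¹ * t = g := by
        rw [← hinv, show t * (t * g * t) * t = t * t * g * (t * t) by group, ht1, one_mul, mul_one]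
      have hy' : y * g⁻¹ = g⁻¹ * y := (Commute.inv_right hy)
      calc t * y * t * g = t * y * t * (t * g⁻¹ * t) := by rw [e]
        _ = t * (y * g⁻¹) * t := by
          rw [show t * y * t * (t * g⁻¹ * t) = t * y * (t * t) * g⁻¹ * t by group, ht1]; group
        _ = t * g⁻¹ * t * (t * y * t) := by
          rw [hy', show t * g⁻¹ * t * (t * y * t) = t * g⁻¹ * (t * t) * y * t by group, ht1]; group
        _ = g * (t * y * t) := by rw [e]
    let f : T → T := fun i => ⟨⟨t * i.1 * t, hnorm _ i.1.2⟩, by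
      rw [← Subgroup.orderOf_coe]
      show orderOf (t * (i.1 : G) * t) = 2
      rw [show t * (i.1 : G) * t = MulAut.conj t (i.1 : G) by rw [MulAut.conj_apply, hti],
        MulEquiv.orderOf_eq, Subgroup.orderOf_coe]
      exact i.2⟩
    have hf : Function.Involutive f := fun i => by
      refine Subtype.ext (Subtype.ext ?_)
      show t * (t * (i.1 : G) * t) * t = i.1
      rw [show t * (t * (i.1 : G) * t) * t = t * t * i.1 * (t * t) by group, ht1, one_mul, mul_one]
    haveI := Fintype.ofFinite T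
    obtain ⟨i, hi⟩ := Equiv.Perm.exists_fixed_point_of_prime (p := 2) (n := 1)
      (σ := hf.toPerm f) (by
        rw [← Nat.card_eq_fintype_card]
        exact fun h => (Nat.not_even_iff_odd.2 (Small.odd_card_involutions hev)) (even_iff_two_dvd.2 h))
      (by refine Equiv.ext fun i => ?_; rw [pow_one, pow_two]; exact hf i)
    have hti' : t * (i.1 : G) = (i.1 : G) * t := by
      have e : t * (i.1 : G) * t = i.1 := congrArg Subtype.val (congrArg Subtype.val hi)
      calc t * (i.1 : G) = t * i.1 * t * t := by rw [mul_assoc (t * (i.1 : G)), ht1, mul_one]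
        _ = i.1 * t := by rw [e]
    refine not_commute_both hΩ hab hno hC hp2 h2 hS ht hs
      (by rw [Subgroup.orderOf_coe]; exact i.2) hα hβ hne hti' ?_
    rw [hsg, mul_assoc, show g * (i.1 : G) = i.1 * g from (mem_centralizer_singleton_iff.1 i.1.2).symm,
      ← mul_assoc, hti', mul_assoc]
  have hgC : g ∈ centralizer ({g} : Set G) := mem_centralizer_singleton_iff.2 rfl
  have hgodd : Odd (orderOf g) := hodd.of_dvd_nat
    (by rw [← Subgroup.orderOf_mk g hgC]; exact orderOf_dvd_natCard _)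
  have hpC : p ∣ Nat.card (centralizer ({g} : Set G)) := by
    by_contra hgp
    exact not_inverted hno ht (not_dvd_centralizer hC ht) hodd hgp hinv
  have htN : t ∈ normalizer ((centralizer ({g} : Set G) : Subgroup G) : Set G) := by
    refine mem_normalizer_iff.2 fun y => ?_
    rw [hti]
    have e : ∀ z ∈ centralizer ({g} : Set G), t * z * t ∈ centralizer ({g} : Set G) := by
      intro z hz
      rw [mem_centralizer_singleton_iff] at hz ⊢
      have e : t * g⁻¹ * t = g := by
        rw [← hinv, show t * (t * g * t) * t = t * t * g * (t * t) by group, ht1, one_mul, mul_one]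
      calc t * z * t * g = t * z * t * (t * g⁻¹ * t) := by rw [e]
        _ = t * (z * g⁻¹) * t := by
          rw [show t * z * t * (t * g⁻¹ * t) = t * z * (t * t) * g⁻¹ * t by group, ht1]; group
        _ = t * g⁻¹ * t * (t * z * t) := by
          rw [show z * g⁻¹ = g⁻¹ * z from Commute.inv_right hz,
            show t * g⁻¹ * t * (t * z * t) = t * g⁻¹ * (t * t) * z * t by group, ht1]; group
        _ = g * (t * z * t) := by rw [e]
    refine ⟨e y, fun h => ?_⟩
    have := e _ h
    rwa [show t * (t * y * t) * t = t * t * y * (t * t) by group, ht1, one_mul, mul_one] at this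
  obtain ⟨Q, hQ⟩ := FgsSix.exists_fixed_sylow _ hodd p (y := t) (by rw [sq, ht1]) htN
  obtain ⟨⟨x, hxQ⟩, hx1''⟩ := ne_bot_iff_exists_ne_one.1 (Q.ne_bot_of_dvd_card hpC)
  have hx1 : x ≠ 1 := fun e => hx1'' (Subtype.ext e)
  have hx1' : (x : G) ≠ 1 := fun e => hx1 (Subtype.ext e)
  obtain ⟨P, hP⟩ := (Q.2.map (centralizer ({g} : Set G)).subtype).exists_le_sylow
  refine ⟨P, ?_⟩
  have hxP : (x : G) ∈ (P : Subgroup G) := hP ⟨x, hxQ, rfl⟩
  have hgN : g ∈ normalizer ((P : Subgroup G) : Set G) :=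
    centralizer_le_normalizer_sylow hΩ hab hno hC hp2 h2 hS P hxP hx1'
      (mem_centralizer_singleton_iff.2 (mem_centralizer_singleton_iff.1 x.2).symm)
  have htP : t ∈ normalizer ((P : Subgroup G) : Set G) := by
    refine Sylow.smul_eq_iff_mem_normalizer.1 ?_
    have hmem : t * (x : G) * t⁻¹ ∈ (P : Subgroup G) := hP ((mem_normalizer_iff.1 hQ _).1 ⟨x, hxQ, rfl⟩)
    refine sylow_eq_of_mem hΩ hab hno hC hp2 h2 hS _ P ?_ hmem (fun e => hx1' (conj_eq_one_iff.1 e))
    rw [Sylow.coe_subgroup_smul]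
    exact ⟨x, hxP, rfl⟩
  have hPinv := inverted_of_normalizes hC ht P.2 htP
  have hsq : g * g ∈ centralizer ((P : Subgroup G) : Set G) := by
    refine mem_centralizer_iff.2 fun y hy => ?_
    have h1 := hPinv _ ((mem_normalizer_iff.1 hgN y).1 hy)
    have h3 : t * y * t = y⁻¹ := hPinv y hy
    have h4 : g⁻¹ * y⁻¹ * g = g * y⁻¹ * g⁻¹ := by
      calc g⁻¹ * y⁻¹ * g = t * g * t * (t * y * t) * (t * g * t)⁻¹ := by rw [h3, hinv, inv_inv]
        _ = t * (g * y * g⁻¹) * t := by
          rw [mul_inv_rev, mul_inv_rev, hti,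
            show t * g * t * (t * y * t) * (t * (g⁻¹ * t)) =
              t * g * (t * t) * y * (t * t) * g⁻¹ * t by group, ht1]
          group
        _ = g * y⁻¹ * g⁻¹ := by rw [h1]; group
    calc y * (g * g) = g * (g⁻¹ * y⁻¹ * g)⁻¹ * g := by group
      _ = g * (g * y⁻¹ * g⁻¹)⁻¹ * g := by rw [h4]
      _ = g * g * y := by group
  obtain ⟨j, hj⟩ := hgodd
  have hP2 : g * g ∈ (P : Subgroup G) := centralizer_sylow_le hΩ hab P hsq
  have := pow_mem hP2 (j + 1)
  rwa [← pow_two, ← pow_mul, show 2 * (j + 1) = 2 * j + 1 + 1 by ring, pow_succ, ← hj,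
    pow_orderOf_eq_one, one_mul] at this

theorem fixed_eq {t s : G} (ht : orderOf t = 2) (hs : orderOf s = 2) {α β γ δ : Ω}
    (hγ : t • γ = γ) (hδ : s • δ = δ) (h₁ : t • α = β) (h₂ : s • α = β) : γ = δ := by
  haveI := Fintype.ofFinite G
  by_contra hne
  obtain ⟨P, hP⟩ := exists_sylow_mem_mul hΩ hab hno hC hp2 h2 hS ht hs hγ hδ hne
  have hfix : (t * s) • α = α := by
    rw [mul_smul, h₂, ← h₁, ← mul_smul, mul_self_of_orderOf ht, one_smul]
  have he := eq_one_of_fixed hΩ hab P hP hfix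
  have hts : t = s := by
    rw [mul_eq_one_iff_eq_inv.1 he, inv_eq_of_mul_eq_one_right (mul_self_of_orderOf hs)]
  exact hne ((existsUnique_fixed hΩ hab hno hC hp2 h2 hS hs).unique (hts ▸ hγ) hδ)

/-- The Sylow `p`-subgroup is normal. -/
theorem sylow_normal (P : Sylow p G) : (P : Subgroup G).Normal := by
  haveI := Fintype.ofFinite G
  obtain ⟨t₀, ht₀⟩ : ∃ t₀ : G, orderOf t₀ = 2 ∧
      ∀ x ∈ (P : Subgroup G), t₀ * x * t₀ = x⁻¹ := by
    haveI := Fact.mk Nat.prime_two
    obtain ⟨t, ht⟩ := exists_prime_orderOf_dvd_card' 2 h2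
    obtain ⟨Q, hQ⟩ := exists_sylow_inverted hno hC ht
    obtain ⟨g, rfl⟩ := exists_smul_eq G Q P
    refine ⟨MulAut.conj g t, (MulEquiv.orderOf_eq _ t).trans ht, fun x hx => ?_⟩
    rw [Sylow.coe_subgroup_smul] at hx
    obtain ⟨a, ha, rfl⟩ := hx
    show MulAut.conj g t * MulAut.conj g a * MulAut.conj g t = (MulAut.conj g a)⁻¹
    rw [← map_mul, ← map_mul, hQ a ha, map_inv]
  obtain ⟨ht₀, hinv⟩ := ht₀
  have h1 := mul_self_of_orderOf ht₀
  obtain ⟨α₀, hα₀, -⟩ := existsUnique_fixed (Ω := Ω) hΩ hab hno hC hp2 h2 hS ht₀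
  have hord : ∀ u ∈ (P : Subgroup G), orderOf (u * t₀) = 2 := by
    intro u hu
    refine orderOf_eq_prime ?_ ?_
    · rw [pow_two, show u * t₀ * (u * t₀) = u * (t₀ * u * t₀) by group, hinv u hu, mul_inv_cancel]
    · intro e
      have : t₀ = u⁻¹ := eq_inv_of_mul_eq_one_right e
      obtain ⟨k, hk⟩ := exists_pow_of_mem P.2 (this ▸ inv_mem hu : t₀ ∈ (P : Subgroup G))
      rw [ht₀] at hk
      exact hp2 ((Nat.prime_dvd_prime_iff_eq Nat.prime_two hp.out).1
        (Nat.prime_two.dvd_of_dvd_pow (dvd_of_eq hk))).symm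
  have hcoset : ∀ t : G, orderOf t = 2 → ∃ u ∈ (P : Subgroup G), t = u * t₀ := by
    intro t ht
    obtain ⟨γ, hγ, huniq⟩ := existsUnique_fixed (Ω := Ω) hΩ hab hno hC hp2 h2 hS ht
    obtain ⟨v, hv, hvγ⟩ := exists_mem_smul_eq hΩ P α₀ γ
    refine ⟨v * v, mul_mem hv hv, FaithfulSMul.eq_of_smul_eq_smul fun a : Ω => ?_⟩
    have hσγ : (v * v * t₀) • γ = γ := by
      rw [← hvγ, ← mul_smul]
      conv_lhs => rw [show v * v * t₀ * v = v * v * (t₀ * v * t₀) * t₀ by
        rw [mul_assoc, mul_assoc (v * v) (t₀ * v * t₀), mul_assoc (t₀ * v), h1, mul_one]]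
      rw [hinv v hv, mul_inv_cancel_right, mul_smul, hα₀]
    by_cases ha : t • a = a
    · rw [huniq a ha, hσγ]
      exact hγ
    obtain ⟨u, hu, hua⟩ := exists_mem_smul_eq hΩ P (t₀ • a) (t • a)
    rw [← mul_smul] at hua
    obtain ⟨δ, hδ, -⟩ := existsUnique_fixed (Ω := Ω) hΩ hab hno hC hp2 h2 hS (hord u hu)
    have hγδ := fixed_eq hΩ hab hno hC hp2 h2 hS ht (hord u hu) hγ hδ rfl hua
    subst hγδ
    have he : u⁻¹ * (v * v) = 1 := eq_one_of_fixed hΩ hab P (α := t₀ • γ)
      (mul_mem (inv_mem hu) (mul_mem hv hv)) (by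
        rw [mul_smul, ← mul_smul (v * v), hσγ, inv_smul_eq_iff, ← mul_smul]
        exact hδ.symm)
    rw [← inv_mul_eq_one.1 he, hua]
  refine ⟨fun x hx g => ?_⟩
  obtain ⟨a, ha, ha'⟩ := hcoset (g * (x * t₀) * g⁻¹) (by
    rw [← MulAut.conj_apply, MulEquiv.orderOf_eq]; exact hord x hx)
  obtain ⟨b, hb, hb'⟩ := hcoset (g * t₀ * g⁻¹) (by
    rw [← MulAut.conj_apply, MulEquiv.orderOf_eq]; exact ht₀)
  have e : g * x * g⁻¹ = g * (x * t₀) * g⁻¹ * (g * t₀ * g⁻¹) := by
    rw [show g * (x * t₀) * g⁻¹ * (g * t₀ * g⁻¹) = g * (x * (t₀ * t₀)) * g⁻¹ by group, h1, mul_one]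
  rw [e, ha', hb', show a * t₀ * (b * t₀) = a * (t₀ * b * t₀) by group, hinv b hb]
  exact mul_mem ha (inv_mem hb)

end CfsgLib.DefectFree
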